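import Groth.Agent.BigOpen.Modules
import Groth.Agent.RefX.Ext
import Groth.Agent.RefX.Dual
import Groth.Agent.InvX.Tensor
import Groth.Agent.QCoh.LocFree
import Groth.Agent.QCoh.FT
import Groth.Prelude.Def_ExtPow2
import Mathlib.LinearAlgebra.ExteriorPower.Basis

/-!
# Double duals across big opens, and the top exterior power on the free locus
-/

set_option autoImplicit false
set_option linter.style.haveILetI false
set_option backward.isDefEq.respectTransparency false
set_option backward.isDefEq.respectTransparency.types false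

universe u

open CategoryTheory AlgebraicGeometry TopologicalSpace Opposite

namespace Groth.Agent.BigOpen

variable {X : Scheme.{u}}

section Hom

open RefX

variable {H G : X.Modules} {U : X.Opens}

theorem extendsAcross_homSh_any (hG : ExtendsAcross U G) : ExtendsAcross U (RefHull.homSh H G) := by
  intro W
  have hrep : ∀ (y : W) (v : H.presheaf.stalk y.1), ∃ (V : X.Opens) (hy : y.1 ∈ V) (_ : V ≤ W) (m : Γ(H, V)),
      H.presheaf.germ V y.1 hy m = v := by
    intro y v
    obtain ⟨V, hyV, m, rfl⟩ := TopCat.Presheaf.exists_germ_eq H.presheaf v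
    exact ⟨V ⊓ W, ⟨hyV, y.2⟩, inf_le_right, AModX.res H inf_le_left m, germ_res H _ _ _⟩
  refine ⟨fun g g' h => sect_ext fun y => LinearMap.ext fun v => ?_, fun g => ?_⟩
  · obtain ⟨V, hyV, hVW, m, rfl⟩ := hrep y v
    rw [← germ_app hVW g m hyV, ← germ_app hVW g' m hyV]
    refine congrArg _ ((hG V).1 ?_)
    rw [res_app, res_app]
    refine ZClosLib.section_ext G _ _ fun z hz => ?_
    rw [germ_app, germ_app]
    exact LinearMap.congr_fun
      (congrArg (fun s : Γ(RefHull.homSh H G, W ⊓ U) => s.1 ⟨z, ⟨hVW hz.1, hz.2⟩⟩) h) _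
  · choose ext hext using fun V => (hG V).2
    let E : ∀ (V : X.Opens), V ≤ W → Γ(H, V) → Γ(G, V) := fun V hV m =>
      ext V (app (inf_le_inf_right U hV) g (AModX.res H (inf_le_left : V ⊓ U ≤ V) m))
    have hE : ∀ (V : X.Opens) (hV : V ≤ W) (m : Γ(H, V)), AModX.res G (inf_le_left : V ⊓ U ≤ V) (E V hV m) =
        app (inf_le_inf_right U hV) g (AModX.res H (inf_le_left : V ⊓ U ≤ V) m) := fun V hV m => hext V _
    have hres : ∀ (V V' : X.Opens) (hV : V ≤ W) (h : V' ≤ V) (m : Γ(H, V)),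
        AModX.res G h (E V hV m) = E V' (h.trans hV) (AModX.res H h m) := fun V V' hV h m => (hG V').1 (by
      rw [hE V' (h.trans hV), AModX.res_res, AModX.res_res,
        ← AModX.res_res (inf_le_left : V ⊓ U ≤ V) (inf_le_inf_right U h) (E V hV m), hE V hV, res_app,
        AModX.res_res])
    have hwd : ∀ (y : X) (V V' : X.Opens) (hV : V ≤ W) (hV' : V' ≤ W) (hy : y ∈ V) (hy' : y ∈ V')
        (m : Γ(H, V)) (m' : Γ(H, V')), H.presheaf.germ V y hy m = H.presheaf.germ V' y hy' m' →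
        G.presheaf.germ V y hy (E V hV m) = G.presheaf.germ V' y hy' (E V' hV' m') := by
      intro y V V' hV hV' hy hy' m m' he
      obtain ⟨V'', hy'', i, i', hii⟩ := TopCat.Presheaf.germ_eq H.presheaf y hy hy' m m' he
      change AModX.res H i.le m = AModX.res H i'.le m' at hii
      rw [← germ_res G i.le hy'', ← germ_res G i'.le hy'', hres _ _ hV, hres _ _ hV', hii]
    have hadd : ∀ (V : X.Opens) (hV : V ≤ W) (a b : Γ(H, V)), E V hV (a + b) = E V hV a + E V hV b :=
      fun V hV a b => (hG V).1 (by rw [map_add (AModX.res G _), hE V hV, hE V hV, hE V hV, map_add, app_add])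
    have hsm : ∀ (V : X.Opens) (hV : V ≤ W) (r : Γ(X, V)) (a : Γ(H, V)), E V hV (r • a) = r • E V hV a :=
      fun V hV r a => (hG V).1 (by rw [hE V hV, AModX.res_smul, app_smul, AModX.res_smul, hE V hV])
    choose V hyV hVW m hm using hrep
    have hval : ∀ (y : W) (v : H.presheaf.stalk y.1) (V' : X.Opens) (hy' : y.1 ∈ V') (hV' : V' ≤ W) (m' : Γ(H, V')),
        H.presheaf.germ V' y.1 hy' m' = v →
        G.presheaf.germ (V y v) y.1 (hyV y v) (E _ (hVW y v) (m y v)) = G.presheaf.germ V' y.1 hy' (E V' hV' m') :=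
      fun y v V' hy' hV' m' h => hwd y.1 (V y v) V' (hVW y v) hV' (hyV y v) hy' (m y v) m' ((hm y v).trans h.symm)
    let f : ∀ y : W, RefHull.StalkHom H G y.1 := fun y =>
      { toFun := fun v => G.presheaf.germ (V y v) y.1 (hyV y v) (E _ (hVW y v) (m y v))
        map_add' := fun v w => by
          have hy : y.1 ∈ V y v ⊓ V y w := ⟨hyV y v, hyV y w⟩
          have hle : V y v ⊓ V y w ≤ W := inf_le_left.trans (hVW y v)
          let mv := AModX.res H (inf_le_left : V y v ⊓ V y w ≤ V y v) (m y v)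
          let mw := AModX.res H (inf_le_right : V y v ⊓ V y w ≤ V y w) (m y w)
          rw [hval y (v + w) _ hy hle (mv + mw) (by rw [map_add, germ_res, germ_res, hm, hm]),
            hval y v _ hy hle mv (by rw [germ_res, hm]), hval y w _ hy hle mw (by rw [germ_res, hm]),
            hadd _ hle, map_add]
        map_smul' := fun a v => by
          obtain ⟨Ua, hya, r, rfl⟩ := TopCat.Presheaf.exists_germ_eq X.presheaf a
          have hy : y.1 ∈ Ua ⊓ V y v := ⟨hya, hyV y v⟩
          have hle : Ua ⊓ V y v ≤ W := inf_le_right.trans (hVW y v)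
          let mv := AModX.res H (inf_le_right : Ua ⊓ V y v ≤ V y v) (m y v)
          let r' := AModX.resR (inf_le_left : Ua ⊓ V y v ≤ Ua) r
          rw [RingHom.id_apply, hval y _ _ hy hle (r' • mv) (by rw [QCoh.germ_smul', germ_resR, germ_res, hm]),
            hval y v _ hy hle mv (by rw [germ_res, hm]), hsm _ hle, QCoh.germ_smul', germ_resR] }
    have hf : ∀ (y : W) (V' : X.Opens) (hy' : y.1 ∈ V') (hV' : V' ≤ W) (m' : Γ(H, V')),
        f y (H.presheaf.germ V' y.1 hy' m') = G.presheaf.germ V' y.1 hy' (E V' hV' m') :=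
      fun y V' hy' hV' m' => hval y _ V' hy' hV' m' rfl
    refine ⟨⟨f, fun V' i m' x => ⟨V', x.2, 𝟙 V', E V' i.le m', fun y => hf _ V' y.2 i.le m'⟩⟩, ?_⟩
    refine sect_ext fun y => LinearMap.ext fun v => ?_
    rw [res_val]
    show f ⟨y.1, y.2.1⟩ v = g.1 y v
    obtain ⟨V', hy', hV', m', rfl⟩ : ∃ (V' : X.Opens) (hy' : y.1 ∈ V') (_ : V' ≤ W) (m' : Γ(H, V')),
        H.presheaf.germ V' y.1 hy' m' = v :=
      ⟨V ⟨y.1, y.2.1⟩ v, hyV ⟨y.1, y.2.1⟩ v, hVW ⟨y.1, y.2.1⟩ v, m ⟨y.1, y.2.1⟩ v, hm ⟨y.1, y.2.1⟩ v⟩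
    rw [hf ⟨y.1, y.2.1⟩ V' hy' hV' m', ← germ_res G (inf_le_left : V' ⊓ U ≤ V') ⟨hy', y.2.2⟩, hE V' hV', germ_app,
      germ_res]

theorem IsBig.extendsAcross (hU : IsBig U) : ExtendsAcross U (Coh.structureModule X) :=
  fun W => hU.bijective W

theorem IsBig.isIso_unit_ddual (hU : IsBig U) (L : X.Modules) :
    IsIso ((Scheme.Modules.restrictAdjunction U.ι).unit.app (RefHull.ddual L)) :=
  isIso_unit_of_extendsAcross (extendsAcross_homSh_any hU.extendsAcross)

end Hom

section Dual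

open RefX

variable {M : X.Modules} {U : X.Opens} {e : Γ(M, U)}

theorem isFrame_dualFrame_any (he : InvX.IsFrame e) : InvX.IsFrame (dualFrame he) := by
  refine InvX.isFrame_of_germ fun y hy => ?_
  have h1 : ∀ c : X.presheaf.stalk y, RefHull.evalStalk M (Coh.structureModule X) y
      (c • (RefHull.dual M).presheaf.germ U y hy (dualFrame he)) = c • coordAt he ⟨y, hy⟩ := fun c => by
    rw [map_smul, RefHull.evalStalk_germ]
    rfl
  constructor
  · intro a b hab
    have h2 := congrArg (fun θ => RefHull.evalStalk M (Coh.structureModule X) y θ (M.presheaf.germ U y hy e)) hab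
    simp only [h1, LinearMap.smul_apply, coordAt_germ he ⟨y, hy⟩, ← map_smul, smul_eq_mul, mul_one] at h2
    exact (unitStalk y).injective h2
  · intro θ
    obtain ⟨W₀, hyW₀, g₀, rfl⟩ := TopCat.Presheaf.exists_germ_eq (RefHull.dual M).presheaf θ
    have hyW : y ∈ W₀ ⊓ U := ⟨hyW₀, hy⟩
    let g := AModX.res (RefHull.dual M) (inf_le_left : W₀ ⊓ U ≤ W₀) g₀
    let r : Γ(X, W₀ ⊓ U) := app le_rfl g (AModX.res M inf_le_right e)
    refine ⟨X.presheaf.germ _ y hyW r, ?_⟩
    have key : r • AModX.res (RefHull.dual M) (inf_le_right : W₀ ⊓ U ≤ U) (dualFrame he) = g :=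
      sect_ext fun z => by
        rw [smul_val, res_val]
        refine LinearMap.ext fun w => ?_
        obtain ⟨a, rfl⟩ := (he.germ_bijective z.2.2).2 w
        show X.presheaf.germ _ z.1 z.2 r • coordAt he ⟨z.1, z.2.2⟩ (a • M.presheaf.germ U z.1 z.2.2 e) =
          g.1 z (a • M.presheaf.germ U z.1 z.2.2 e)
        rw [coordAt_smul, map_smul, ← germ_res M (inf_le_right : W₀ ⊓ U ≤ U) z.2,
          ← germ_app le_rfl g (AModX.res M inf_le_right e) z.2]
        refine (unitStalk z.1).symm.injective ?_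
        rw [map_smul, map_smul, LinearEquiv.symm_apply_apply]
        show _ = a • (unitStalk z.1).symm ((Coh.structureModule X).presheaf.germ _ z.1 z.2 r)
        rw [unitStalk_symm_germ, smul_eq_mul, smul_eq_mul, mul_comm]
    dsimp only
    rw [← germ_res (RefHull.dual M) (inf_le_right : W₀ ⊓ U ≤ U) hyW, ← QCoh.germ_smul', key, germ_res]

/-- The biduality map is bijective on stalks where there is a frame. -/
theorem stalkMap_bidual_bijective (he : InvX.IsFrame e) {y : X} (hy : y ∈ U) :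
    Function.Bijective (RefHull.stalkMapₗ (RefHull.bidualMap M) y) := by
  have hd := isFrame_dualFrame_any he
  have hdd := (isFrame_dualFrame_any hd).germ_bijective hy
  have key : (RefHull.bidualMap M).app U e = dualFrame hd := sect_ext fun z => by
    refine LinearMap.ext fun θ => ?_
    obtain ⟨a, rfl⟩ := (hd.germ_bijective z.2).2 θ
    rw [RefHull.bidualMap_app_apply, RefHull.bidualAt_apply, map_smul, LinearMap.smul_apply,
      RefHull.evalStalk_germ]
    show a • coordAt he z (M.presheaf.germ U z.1 z.2 e) = coordAt hd z _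
    rw [coordAt_germ, coordAt_smul, ← map_smul, smul_eq_mul, mul_one]
  have h1 : ∀ a : X.presheaf.stalk y, RefHull.stalkMapₗ (RefHull.bidualMap M) y (a • M.presheaf.germ U y hy e) =
      a • (RefHull.ddual M).presheaf.germ U y hy (dualFrame hd) := fun a => by
    rw [map_smul, RefHull.stalkMapₗ_germ, key]
  refine (Function.Bijective.of_comp_iff _ (he.germ_bijective hy)).1 ?_
  convert hdd using 1
  exact funext h1

end Dual

section Frame

variable {L F : X.Modules}

theorem bijective_smul_topWedge {R : Type*} [CommRing R] {N : Type*} [AddCommGroup N] [Module R N] {h : ℕ}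
    (b : Module.Basis (Fin h) R N) :
    Function.Bijective fun r : R => r • exteriorPower.ιMulti R h (fun i => b i) := by
  haveI : Subsingleton (Fin h ↪o Fin h) := ⟨fun f g => OrderEmbedding.range_inj.1 <| by
    rw [(Finite.injective_iff_surjective.1 f.injective).range_eq,
      (Finite.injective_iff_surjective.1 g.injective).range_eq]⟩
  haveI : Subsingleton (Set.powersetCard (Fin h) h) := Set.powersetCard.ofFinEmbEquiv.symm.subsingleton
  let s : Set.powersetCard (Fin h) h := Set.powersetCard.ofFinEmbEquiv (RelEmbedding.refl _)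
  let B := b.exteriorPower h
  have hB : B s = exteriorPower.ιMulti R h (fun i => b i) := by
    rw [exteriorPower.basis_apply, exteriorPower.ιMulti_family]
    simp [s]
  rw [← hB]
  refine ⟨fun a c hac => ?_, fun x => ⟨B.repr x s, B.ext_elem fun t => ?_⟩⟩
  · have := congrArg (fun v => B.repr v s) hac
    simpa using this
  · rw [Subsingleton.elim t s]
    simp

/-- Sections on an affine open in a free chart. -/
theorem free_sections' {Y : Scheme.{u}} {V : X.Opens} (hV : IsAffineOpen V) (g : Y ⟶ X) [IsOpenImmersion g]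
    (j : Spec Γ(X, V) ⟶ Y) [IsOpenImmersion j] (hj : j ≫ g = hV.fromSpec) {n : ℕ}
    (e : F.restrict g ≅ FlatMod.freeMod Y n) :
    Nonempty (Γ(F, V) ≃ₗ[Γ(X, V)] (ULift.{u} (Fin n) →₀ Γ(X, V))) :=
  let ⟨l⟩ := QCoh.exists_linearEquiv_of_freeIso ((Scheme.Modules.restrictFunctorCongr hj.symm).app F ≪≫
    (QCoh.restrictRestrict F _ _).symm ≪≫ (Scheme.Modules.restrictFunctor j).mapIso e ≪≫ QCoh.freeModRestrict j n)
  ⟨(QCoh.chartEquiv hV F).trans l⟩

theorem exists_basis_affine {h : ℕ} {U : X.Opens} (hFU : FlatMod.IsFinLocFreeOfRank h (F.restrict U.ι)) {x : X}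
    (hx : x ∈ U) : ∃ V : X.Opens, IsAffineOpen V ∧ x ∈ V ∧ V ≤ U ∧
      Nonempty (Module.Basis (Fin h) Γ(X, V) Γ(F, V)) := by
  obtain ⟨V', hxV', ⟨e⟩⟩ := hFU ⟨x, hx⟩
  have hxI : x ∈ U.ι ''ᵁ V' := ⟨⟨x, hx⟩, hxV', rfl⟩
  obtain ⟨_, ⟨V, hV, rfl⟩, hxV, hle⟩ := X.isBasis_affineOpens.exists_subset_of_mem_open hxI (U.ι ''ᵁ V').2
  replace hle : V ≤ U.ι ''ᵁ V' := hle
  obtain ⟨l⟩ := free_sections' (F := F) hV (V'.ι ≫ U.ι)
    (hV.isoSpec.inv ≫ X.homOfLE hle ≫ (U.ι.isoImage V').inv)
    (by simp only [Category.assoc, Scheme.Hom.isoImage_inv_ι, Scheme.homOfLE_ι, IsAffineOpen.isoSpec_inv_ι])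
    ((QCoh.restrictRestrict F _ _).symm ≪≫ e)
  refine ⟨V, hV, hxV, fun z hz => ?_, ⟨(Module.Basis.ofRepr l).reindex Equiv.ulift⟩⟩
  obtain ⟨w, -, rfl⟩ := hle hz
  exact w.2

theorem exists_frame {h : ℕ} (hF : Coh.IsQCoh F) (hL : ExtPow.IsExtPow h F L) {U : X.Opens}
    (hFU : FlatMod.IsFinLocFreeOfRank h (F.restrict U.ι)) {x : X} (hx : x ∈ U) :
    ∃ (V : X.Opens) (s : Γ(L, V)), x ∈ V ∧ InvX.IsFrame s := by
  obtain ⟨φ, hφ⟩ := hL
  obtain ⟨V, hV, hxV, -, ⟨b⟩⟩ := exists_basis_affine hFU hx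
  let s : Γ(L, V) := (φ ⟨V, hV⟩).symm (exteriorPower.ιMulti _ h (fun i => b i))
  refine ⟨V, s, hxV, ?_⟩
  have key : ∀ g : Γ(X, V), Function.Bijective fun r : Γ(X, X.basicOpen g) =>
      r • AModX.res L (X.basicOpen_le g) s := by
    intro g
    letI := QCoh.basicModule g F
    haveI := hV.isLocalization_basicOpen g
    haveI := QCoh.isLocalizedModule_basicRes g hF hV
    haveI : IsScalarTower Γ(X, V) Γ(X, X.basicOpen g) Γ(F, X.basicOpen g) :=
      IsScalarTower.of_algebraMap_smul fun _ _ => rfl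
    let bg := b.ofIsLocalizedModule Γ(X, X.basicOpen g) (Submonoid.powers g) (QCoh.basicRes g F)
    have e1 : AModX.res L (X.basicOpen_le g) s = (φ ⟨_, hV.basicOpen g⟩).symm
        (exteriorPower.ιMulti _ h (fun i => bg i)) := by
      refine (hφ ⟨V, hV⟩ ⟨_, hV.basicOpen g⟩ (X.basicOpen_le g) (fun i => b i)).trans ?_
      congr 2
      funext i
      exact (b.ofIsLocalizedModule_apply Γ(X, X.basicOpen g) (Submonoid.powers g) (QCoh.basicRes g F) i).symm
    rw [e1]
    have h1 := (φ ⟨_, hV.basicOpen g⟩).symm.bijective.comp (bijective_smul_topWedge bg)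
    refine Eq.mpr (congrArg Function.Bijective (funext fun r => ?_)) h1
    exact (map_smul (φ ⟨_, hV.basicOpen g⟩).symm r _).symm
  refine InvX.isFrame_of_germ fun y hy => ⟨fun c c' hc => ?_, fun w => ?_⟩
  · obtain ⟨W, hyW, r, rfl⟩ := TopCat.Presheaf.exists_germ_eq X.presheaf c
    obtain ⟨W', hyW', r', rfl⟩ := TopCat.Presheaf.exists_germ_eq X.presheaf c'
    dsimp only at hc
    have hy₁ : y ∈ W ⊓ W' ⊓ V := ⟨⟨hyW, hyW'⟩, hy⟩
    rw [← RefX.germ_resR (inf_le_left.trans inf_le_left : W ⊓ W' ⊓ V ≤ W) hy₁,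
      ← RefX.germ_resR (inf_le_left.trans inf_le_right : W ⊓ W' ⊓ V ≤ W') hy₁,
      ← RefX.germ_res L (inf_le_right : W ⊓ W' ⊓ V ≤ V) hy₁, ← QCoh.germ_smul', ← QCoh.germ_smul'] at hc
    obtain ⟨W'', hyW'', i, j, hij⟩ := TopCat.Presheaf.germ_eq (C := AddCommGrpCat.{u}) L.presheaf y hy₁ hy₁ _ _ hc
    obtain ⟨g, hgW, hyg⟩ := hV.exists_basicOpen_le ⟨y, hyW''⟩ hy
    change AModX.res L i.le _ = AModX.res L j.le _ at hij
    have h2 := congrArg (AModX.res L hgW) hij
    simp only [AModX.res_smul, AModX.res_res] at h2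
    have h3 := congrArg (X.presheaf.germ _ y hyg) ((key g).1 h2)
    simp only [RefX.germ_resR] at h3
    exact h3
  · obtain ⟨W, hyW, m, rfl⟩ := TopCat.Presheaf.exists_germ_eq L.presheaf w
    obtain ⟨g, hgW, hyg⟩ := hV.exists_basicOpen_le ⟨y, hyW⟩ hy
    obtain ⟨r, hr⟩ := (key g).2 (AModX.res L hgW m)
    refine ⟨X.presheaf.germ _ y hyg r, ?_⟩
    dsimp only at hr ⊢
    rw [← RefX.germ_res L (X.basicOpen_le g) hyg, ← QCoh.germ_smul', hr, RefX.germ_res]

theorem isIso_restrict_bidual_of_frames {U : X.Opens}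
    (hfr : ∀ x ∈ U, ∃ (V : X.Opens) (s : Γ(L, V)), x ∈ V ∧ InvX.IsFrame s) :
    IsIso ((Scheme.Modules.restrictFunctor U.ι).map (RefHull.bidualMap L)) := by
  refine ZClosLib.isIso_of_stalkMap_bijective _ fun y => ?_
  let η := Scheme.Modules.restrictStalkNatIso U.ι y
  obtain ⟨V, s, hyV, hs⟩ := hfr (U.ι.base y) y.2
  haveI : IsIso ((TopCat.Presheaf.stalkFunctor Ab (U.ι.base y)).map (RefHull.bidualMap L).mapPresheaf) :=
    (ConcreteCategory.isIso_iff_bijective _).2 (stalkMap_bidual_bijective hs hyV)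
  haveI : IsIso ((Scheme.Modules.toPresheaf X ⋙ TopCat.Presheaf.stalkFunctor _ (U.ι.base y)).map (RefHull.bidualMap L)) := this
  haveI : IsIso ((Scheme.Modules.restrictFunctor U.ι ⋙ Scheme.Modules.toPresheaf _ ⋙
      TopCat.Presheaf.stalkFunctor _ y).map (RefHull.bidualMap L)) := (NatIso.isIso_map_iff η _).2 this
  exact (ConcreteCategory.isIso_iff_bijective _).1 this

end Frame

end Groth.Agent.BigOpen
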