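import Groth.Agent.SchDenseLib.Basic

/-!
# Opens whose complement is cut out by regular pairs

`IsBig U`: near every point outside `U` there are two functions forming a weakly regular sequence
whose non-vanishing loci lie in `U`.  Functions then extend uniquely from `U`.
-/

set_option autoImplicit false
set_option linter.style.haveILetI false

universe u

open CategoryTheory AlgebraicGeometry TopologicalSpace Opposite

namespace Groth.Agent.BigOpen

variable {X : Scheme.{u}}

/-- Restriction of functions. -/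
noncomputable abbrev rr {V W : X.Opens} (h : W ≤ V) : Γ(X, V) →+* Γ(X, W) :=
  (X.presheaf.map (homOfLE h).op).hom

theorem rr_rr {U V W : X.Opens} (h : V ≤ U) (h' : W ≤ V) (s : Γ(X, U)) :
    rr h' (rr h s) = rr (h'.trans h) s := by
  show (X.presheaf.map (homOfLE h).op ≫ X.presheaf.map (homOfLE h').op).hom s = _
  rw [← Functor.map_comp, ← op_comp, homOfLE_comp]

theorem rr_self {U : X.Opens} (h : U ≤ U) (s : Γ(X, U)) : rr h s = s := by
  show (X.presheaf.map (homOfLE h).op).hom s = s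
  rw [show (homOfLE h).op = 𝟙 (op U) from rfl, X.presheaf.map_id]
  rfl

/-- Sections agreeing locally are equal. -/
theorem eq_of_locally {V : X.Opens} (s t : Γ(X, V))
    (h : ∀ x ∈ V, ∃ (W : X.Opens) (hW : W ≤ V), x ∈ W ∧ rr hW s = rr hW t) : s = t := by
  choose W hW hx he using h
  refine TopCat.Sheaf.eq_of_locally_eq' X.sheaf (fun x : V => W x.1 x.2) V (fun x => homOfLE (hW x.1 x.2))
    (fun x hxV => Opens.mem_iSup.2 ⟨⟨x, hxV⟩, hx x hxV⟩) s t fun x => he x.1 x.2

/-- Opens with regular pairs near every point of the complement. -/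
def IsBig (U : X.Opens) : Prop :=
  ∀ (V : X.Opens) (x : X), x ∈ V → x ∉ U → ∃ W : X.Opens, IsAffineOpen W ∧ W ≤ V ∧ x ∈ W ∧
    ∃ a b : Γ(X, W), X.basicOpen a ≤ U ∧ X.basicOpen b ≤ U ∧ (∀ z, a * z = 0 → z = 0) ∧
      ∀ z y, b * z = a * y → ∃ c, z = a * c

/-- A function on an open inside an affine open vanishing where `a` is invertible vanishes,
for `a` regular. -/
theorem eq_zero_of_basicOpen {W : X.Opens} (hW : IsAffineOpen W) {a : Γ(X, W)}
    (ha : ∀ z, a * z = 0 → z = 0) {V : X.Opens} (hV : V ≤ W) (t : Γ(X, V))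
    (ht : rr (inf_le_left : V ⊓ X.basicOpen a ≤ V) t = 0) : t = 0 := by
  refine eq_of_locally t 0 fun x hx => ?_
  obtain ⟨g, hgV, hxg⟩ := hW.exists_basicOpen_le (⟨x, hx⟩ : V) (hV hx)
  refine ⟨X.basicOpen g, hgV, hxg, ?_⟩
  have hD : IsAffineOpen (X.basicOpen g) := hW.basicOpen g
  have hle : X.basicOpen g ≤ W := X.basicOpen_le g
  haveI := hW.isLocalization_basicOpen g
  letI : Algebra Γ(X, W) Γ(X, X.basicOpen g) := (X.presheaf.map (homOfLE hle).op).hom.toAlgebra
  haveI : IsLocalization.Away g Γ(X, X.basicOpen g) := hW.isLocalization_basicOpen g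
  rw [map_zero]
  have h1 : X.presheaf.map (homOfLE (X.basicOpen_le (rr hle a))).op (rr hgV t) = 0 := by
    have hle' : X.basicOpen (rr hle a) ≤ V ⊓ X.basicOpen a := le_inf ((X.basicOpen_le _).trans hgV) (by
      rw [show X.basicOpen (rr hle a) = X.basicOpen g ⊓ X.basicOpen a from X.basicOpen_res a (homOfLE hle).op]
      exact inf_le_right)
    have h2 := congrArg (rr hle') ht
    rw [rr_rr, map_zero] at h2
    show rr _ (rr hgV t) = 0
    rw [rr_rr]
    exact h2
  obtain ⟨n, hn⟩ := (SchDenseLib.basicOpen_map_eq_zero_iff hD (rr hle a) (rr hgV t)).1 h1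
  obtain ⟨⟨c, s⟩, hc⟩ := IsLocalization.surj (Submonoid.powers g) (rr hgV t)
  have h3 : algebraMap Γ(X, W) Γ(X, X.basicOpen g) (a ^ n * c) = 0 := by
    rw [map_mul, map_pow, ← hc, ← mul_assoc]
    show rr hle a ^ n * rr hgV t * _ = 0
    rw [hn, zero_mul]
  obtain ⟨⟨m, hm⟩, h4⟩ := (IsLocalization.map_eq_zero_iff (Submonoid.powers g) _ _).1 h3
  have h5 : m * c = 0 := by
    have key : ∀ k z, a ^ k * z = 0 → z = 0 := fun k => by
      induction k with
      | zero => intro z hz; simpa using hz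
      | succ k ih => intro z hz; exact ih z (ha _ (by rw [← mul_assoc, ← pow_succ']; exact hz))
    exact key n _ (by rw [← h4]; ring)
  have h6 : algebraMap Γ(X, W) Γ(X, X.basicOpen g) c = 0 :=
    (IsLocalization.map_eq_zero_iff (Submonoid.powers g) _ _).2 ⟨⟨m, hm⟩, h5⟩
  rw [h6] at hc
  exact ((IsLocalization.map_units (M := Submonoid.powers g) _ s).mul_left_eq_zero).1 hc

variable {U : X.Opens}

/-- Functions are determined by their restriction to a big open. -/
theorem IsBig.dense (hU : IsBig U) : CInt.IsSchematicallyDense U := by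
  refine SchDenseLib.of_local U fun V x hx => ?_
  by_cases hxU : x ∈ U
  · refine ⟨V ⊓ U, inf_le_left, ⟨hx, hxU⟩, fun b hb => ?_⟩
    have h1 : rr (inf_le_left : V ⊓ U ⊓ U ≤ V ⊓ U) b = 0 := hb
    have h2 := congrArg (rr (le_inf le_rfl inf_le_right : V ⊓ U ≤ V ⊓ U ⊓ U)) h1
    rwa [rr_rr, rr_self, map_zero] at h2
  · obtain ⟨W, hW, hWV, hxW, a, b, haU, -, ha, -⟩ := hU V x hx hxU
    refine ⟨W, hWV, hxW, fun t ht => ?_⟩
    have h1 : rr (inf_le_left : W ⊓ U ≤ W) t = 0 := ht
    refine eq_zero_of_basicOpen hW ha le_rfl t ?_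
    have h2 := congrArg (rr (inf_le_inf_left W haU)) h1
    rwa [rr_rr, map_zero] at h2

/-- Injectivity of restriction. -/
theorem IsBig.injective (hU : IsBig U) (V : X.Opens) :
    Function.Injective (rr (inf_le_left : V ⊓ U ≤ V)) :=
  hU.dense V

theorem extend_affine {W : X.Opens} (hW : IsAffineOpen W) {a b : Γ(X, W)} (haU : X.basicOpen a ≤ U)
    (hbU : X.basicOpen b ≤ U) (ha : ∀ z, a * z = 0 → z = 0) (hb : ∀ z y, b * z = a * y → ∃ c, z = a * c)
    (s : Γ(X, W ⊓ U)) : ∃ c : Γ(X, W), rr (inf_le_left : W ⊓ U ≤ W) c = s := by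
  have hpow : ∀ k z, a ^ k * z = 0 → z = 0 := fun k => by
    induction k with
    | zero => intro z hz; simpa using hz
    | succ k ih => intro z hz; exact ih z (ha _ (by rw [← mul_assoc, ← pow_succ']; exact hz))
  have hb' : ∀ n z y, b * z = a ^ n * y → ∃ c, z = a ^ n * c := fun n => by
    induction n with
    | zero => intro z y _; exact ⟨z, by simp⟩
    | succ n ih =>
      intro z y h
      rw [pow_succ', mul_assoc] at h
      obtain ⟨z', rfl⟩ := hb z _ h
      have h' : b * z' = a ^ n * y := by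
        have h7 : a * (b * z' - a ^ n * y) = 0 := by linear_combination h
        exact sub_eq_zero.1 (ha _ h7)
      obtain ⟨c, rfl⟩ := ih z' y h'
      exact ⟨c, by ring⟩
  have hbk : ∀ k n z y, b ^ k * z = a ^ n * y → ∃ c, z = a ^ n * c := fun k => by
    induction k with
    | zero => intro n z y h; exact ⟨y, by simpa using h⟩
    | succ k ih =>
      intro n z y h
      obtain ⟨c, hc⟩ := hb' n (b ^ k * z) y (by linear_combination h)
      exact ih n z c hc
  let la : X.basicOpen a ≤ W ⊓ U := le_inf (X.basicOpen_le a) haU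
  let lb : X.basicOpen b ≤ W ⊓ U := le_inf (X.basicOpen_le b) hbU
  haveI := hW.isLocalization_basicOpen a
  haveI := hW.isLocalization_basicOpen b
  obtain ⟨n, u, hu⟩ := IsLocalization.Away.surj a (S := Γ(X, X.basicOpen a)) (rr la s)
  obtain ⟨m, v, hv⟩ := IsLocalization.Away.surj b (S := Γ(X, X.basicOpen b)) (rr lb s)
  have hu' : rr (X.basicOpen_le a) u = rr la s * rr (X.basicOpen_le a) a ^ n := hu.symm
  have hv' : rr (X.basicOpen_le b) v = rr lb s * rr (X.basicOpen_le b) b ^ m := hv.symm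
  have hab : X.basicOpen (a * b) ≤ W ⊓ U := le_inf (X.basicOpen_le _) (by
    rw [X.basicOpen_mul]; exact inf_le_left.trans haU)
  have hza : X.basicOpen (a * b) ≤ X.basicOpen a := by rw [X.basicOpen_mul]; exact inf_le_left
  have hzb : X.basicOpen (a * b) ≤ X.basicOpen b := by rw [X.basicOpen_mul]; exact inf_le_right
  have e1 := congrArg (rr hza) hu'
  have e2 := congrArg (rr hzb) hv'
  simp only [map_mul, map_pow, rr_rr] at e1 e2
  have h0 : X.presheaf.map (homOfLE (X.basicOpen_le (a * b))).op (u * b ^ m - v * a ^ n) = 0 := by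
    show rr (X.basicOpen_le (a * b)) _ = 0
    rw [map_sub, map_mul, map_mul, map_pow, map_pow, e1, e2]
    ring
  obtain ⟨N, hN⟩ := (SchDenseLib.basicOpen_map_eq_zero_iff hW (a * b) _).1 h0
  have h1 : b ^ N * (u * b ^ m - v * a ^ n) = 0 := hpow N _ (by rw [← mul_assoc, ← mul_pow]; exact hN)
  obtain ⟨c, hc⟩ := hbk (N + m) n u (b ^ N * v) (by linear_combination h1)
  refine ⟨c, ?_⟩
  refine sub_eq_zero.1 (eq_zero_of_basicOpen hW ha inf_le_left _ ?_)
  have hunit : IsUnit (rr (X.basicOpen_le a) a ^ n) :=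
    (IsLocalization.Away.algebraMap_isUnit (R := Γ(X, W)) (S := Γ(X, X.basicOpen a)) a).pow n
  have h2 : rr (X.basicOpen_le a) c = rr la s := by
    refine hunit.mul_left_injective ?_
    show rr (X.basicOpen_le a) c * _ = rr la s * _
    rw [← hu', hc, map_mul, map_pow]
    ring
  have h3 := congrArg (rr (inf_le_right : W ⊓ U ⊓ X.basicOpen a ≤ X.basicOpen a)) h2
  rw [rr_rr, rr_rr] at h3
  rw [map_sub, rr_rr, sub_eq_zero]
  exact h3

/-- Functions extend uniquely from a big open. -/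
theorem IsBig.bijective (hU : IsBig U) (V : X.Opens) :
    Function.Bijective (rr (inf_le_left : V ⊓ U ≤ V)) := by
  refine ⟨hU.injective V, fun s => ?_⟩
  have key : ∀ x : V, ∃ (W : X.Opens) (hW : W ≤ V), x.1 ∈ W ∧ ∃ c : Γ(X, W),
      rr (inf_le_left : W ⊓ U ≤ W) c = rr (inf_le_inf_right U hW) s := fun x => by
    by_cases hxU : x.1 ∈ U
    · exact ⟨V ⊓ U, inf_le_left, ⟨x.2, hxU⟩, s, rfl⟩
    · obtain ⟨W, hW, hWV, hxW, a, b, haU, hbU, ha, hb⟩ := hU V x.1 x.2 hxU
      exact ⟨W, hWV, hxW, extend_affine hW haU hbU ha hb _⟩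
  choose W hW hx c hc using key
  have hcompat : TopCat.Presheaf.IsCompatible X.presheaf W c := fun i j => by
    refine hU.injective (W i ⊓ W j) ?_
    show rr _ (rr inf_le_left (c i)) = rr _ (rr inf_le_right (c j))
    have e1 := congrArg (rr (inf_le_inf_right U inf_le_left : (W i ⊓ W j) ⊓ U ≤ W i ⊓ U)) (hc i)
    have e2 := congrArg (rr (inf_le_inf_right U inf_le_right : (W i ⊓ W j) ⊓ U ≤ W j ⊓ U)) (hc j)
    rw [rr_rr, rr_rr] at e1 e2
    rw [rr_rr, rr_rr]
    exact e1.trans e2.symm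
  obtain ⟨t, ht, -⟩ := TopCat.Sheaf.existsUnique_gluing' X.sheaf W V (fun i => homOfLE (hW i))
    (fun x hxV => Opens.mem_iSup.2 ⟨⟨x, hxV⟩, hx ⟨x, hxV⟩⟩) c hcompat
  refine ⟨t, eq_of_locally _ _ fun x hxV => ⟨W ⟨x, hxV.1⟩ ⊓ U, inf_le_inf_right U (hW _), ⟨hx _, hxV.2⟩, ?_⟩⟩
  rw [← hc ⟨x, hxV.1⟩, ← show rr (hW ⟨x, hxV.1⟩) t = c ⟨x, hxV.1⟩ from ht ⟨x, hxV.1⟩, rr_rr, rr_rr]

end Groth.Agent.BigOpen
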