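import Groth.Agent.BigOpen.Smooth

/-!
# Depth two at points of fibre dimension two
-/

set_option autoImplicit false
set_option linter.style.haveILetI false
set_option backward.isDefEq.respectTransparency false

universe u

open CategoryTheory AlgebraicGeometry TopologicalSpace IsLocalRing
open RingTheory.Sequence

namespace Groth.Agent.BigOpen

variable {X S : Scheme.{u}}

theorem two_le_depth (f : X ⟶ S) [Flat f] [LocallyOfFinitePresentation f] (x : X)
    (hCM : LocCoh.IsCohenMacaulayLocalRing ↑(CInt.fiberStalk f x))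
    (hx : (2 : WithBot ℕ∞) ≤ ringKrullDim ↑(CInt.fiberStalk f x)) :
    (2 : ℕ∞) ≤ LocCoh.depth ↑(X.presheaf.stalk x) ↑(X.presheaf.stalk x) := by
  let w := f.asFiber x
  let π : X.presheaf.stalk x →+* (f.fiber (f x)).presheaf.stalk w :=
    FibFlat.sm (f.fiberι (f x)) w x (f.fiberι_asFiber x)
  have hπ : Function.Surjective π := FibFlat.surjective_sm w x (f.fiberι_asFiber x)
  have hker : RingHom.ker π = (maximalIdeal (S.presheaf.stalk (f x))).map (f.stalkMap x).hom := by
    rw [← FibFlat.sm_self f x]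
    exact FibFlat.ker_sm_fiberι f (f x) w x (f.fiberι_asFiber x)
  haveI : LocCoh.IsCohenMacaulayLocalRing ↑((f.fiber (f x)).presheaf.stalk w) := hCM
  have hd : ((2 : ℕ) : ℕ∞) ≤ LocCoh.idealDepth (maximalIdeal ((f.fiber (f x)).presheaf.stalk w))
      ((f.fiber (f x)).presheaf.stalk w) := by
    rw [LC.idealDepth_self_eq_height]
    rw [← IsLocalRing.maximalIdeal_height_eq_ringKrullDim] at hx
    exact WithBot.coe_le_coe.1 hx
  obtain ⟨rs, hrs, hmem, hlen⟩ :=
    Alg6.exists_length_ge_of_le_idealDepth (LC.smul_top_ne_top_of_le_maximal le_rfl) hd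
  obtain ⟨r₁, r₂, rest, rfl⟩ : ∃ r₁ r₂ rest, rs = r₁ :: r₂ :: rest := by
    match rs, hlen with
    | r₁ :: r₂ :: rest, _ => exact ⟨r₁, r₂, rest, rfl⟩
  have hpair : IsWeaklyRegular ((f.fiber (f x)).presheaf.stalk w) [r₁, r₂] := by
    rw [isWeaklyRegular_cons_iff] at hrs ⊢
    refine ⟨hrs.1, ?_⟩
    have h2 := hrs.2
    rw [isWeaklyRegular_cons_iff] at h2 ⊢
    exact ⟨h2.1, IsWeaklyRegular.nil _ _⟩
  rw [pair_iff] at hpair
  obtain ⟨a₀, rfl⟩ := hπ r₁
  obtain ⟨b₀, rfl⟩ := hπ r₂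
  have hm : ∀ h ∈ [a₀, b₀], h ∈ maximalIdeal (X.presheaf.stalk x) := by
    simp only [List.mem_cons, List.not_mem_nil, or_false, forall_eq_or_imp, forall_eq]
    exact ⟨fun hu => hmem (π a₀) (by simp) (hu.map π), fun hu => hmem (π b₀) (by simp) (hu.map π)⟩
  have hreg : ∀ i (hi : i < [a₀, b₀].length), ∀ z, [a₀, b₀][i] * z ∈ Ideal.ofList ([a₀, b₀].take i) ⊔
        (maximalIdeal (S.presheaf.stalk (f x))).map (f.stalkMap x).hom →
      z ∈ Ideal.ofList ([a₀, b₀].take i) ⊔ (maximalIdeal (S.presheaf.stalk (f x))).map (f.stalkMap x).hom := by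
    intro i hi z
    rw [← hker, ← Ideal.comap_map_of_surjective' π hπ, Ideal.mem_comap, Ideal.mem_comap, Ideal.map_ofList,
      map_mul]
    match i, hi with
    | 0, _ =>
      simp only [List.take_zero, List.map_nil, List.getElem_cons_zero]
      simp only [Ideal.ofList_nil, Ideal.mem_bot]
      exact hpair.1 _
    | 1, _ =>
      simp only [List.take_succ_cons, List.take_zero, List.map_cons, List.map_nil, List.getElem_cons_succ,
        List.getElem_cons_zero, Ideal.ofList_singleton, Ideal.mem_span_singleton]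
      rintro ⟨y, hy⟩
      exact hpair.2 _ y hy
  obtain ⟨-, -, U₁, hU₁, hx₁, -, -, hs', hgerm, -, hwr, -⟩ :=
    Triage.SliceFlat.exists_slice_sch f x (Flat.stalkMap f x) [a₀, b₀] hm hreg ⊤ trivial
  letI := X.presheaf.algebra_section_stalk ⟨x, hx₁⟩
  haveI := hU₁.isLocalization_stalk ⟨x, hx₁⟩
  haveI : Module.Flat Γ(X, U₁) (X.presheaf.stalk x) :=
    IsLocalization.flat _ (hU₁.primeIdealOf ⟨x, hx₁⟩).asIdeal.primeCompl
  have hw2 := IsWeaklyRegular.of_flat (S := X.presheaf.stalk x) hwr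
  rw [show hs'.map (algebraMap Γ(X, U₁) (X.presheaf.stalk x)) = [a₀, b₀] from hgerm] at hw2
  rw [LocCoh.depth, LocCoh.idealDepth]
  split_ifs
  · exact le_top
  · exact le_iSup₂_of_le [a₀, b₀] ⟨hw2, hm⟩ (by simp)

end Groth.Agent.BigOpen
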