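import Groth.Agent.BigOpen.Basic
import Groth.Agent.Triage.SliceFlatSch
import Groth.Agent.Codepth5.AssBase
import Groth.Agent.DimFormula.Stalk
import Groth.Agent.LC.GorLoc
import Groth.Agent.Alg6.AssDepth

/-!
# Opens of relative codimension two in families with Cohen–Macaulay fibres are big
-/

set_option autoImplicit false
set_option linter.style.haveILetI false
set_option backward.isDefEq.respectTransparency false

universe u

open CategoryTheory AlgebraicGeometry TopologicalSpace IsLocalRing Order Topology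
open RingTheory.Sequence

namespace Groth.Agent.BigOpen

/-- Elementary form of a weakly regular pair. -/
theorem pair_iff {R : Type u} [CommRing R] (a b : R) :
    IsWeaklyRegular R [a, b] ↔ (∀ z, a * z = 0 → z = 0) ∧ ∀ z y, b * z = a * y → ∃ c, z = a * c := by
  rw [isWeaklyRegular_cons_iff, isWeaklyRegular_cons_iff]
  simp only [IsWeaklyRegular.nil, and_true]
  rw [isSMulRegular_iff_right_eq_zero_of_smul, isSMulRegular_iff_right_eq_zero_of_smul]
  refine and_congr Iff.rfl ⟨fun h z y hzy => ?_, fun h w hw => ?_⟩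
  · have h0 : b • (Submodule.Quotient.mk z : QuotSMulTop a R) = 0 := by
      rw [← Submodule.Quotient.mk_smul, Submodule.Quotient.mk_eq_zero, Submodule.mem_smul_pointwise_iff_exists]
      exact ⟨y, trivial, hzy.symm⟩
    obtain ⟨c, -, hc⟩ := (Submodule.mem_smul_pointwise_iff_exists _ _ _).1
      ((Submodule.Quotient.mk_eq_zero _).1 (h _ h0))
    exact ⟨c, hc.symm⟩
  · obtain ⟨z, rfl⟩ := Submodule.Quotient.mk_surjective _ w
    rw [← Submodule.Quotient.mk_smul, Submodule.Quotient.mk_eq_zero, Submodule.mem_smul_pointwise_iff_exists] at hw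
    obtain ⟨y, -, hy⟩ := hw
    obtain ⟨c, hc⟩ := h z y hy.symm
    rw [Submodule.Quotient.mk_eq_zero, Submodule.mem_smul_pointwise_iff_exists]
    exact ⟨c, trivial, hc.symm⟩

/-- The local ring at a point above a point is a localisation of dimension its height. -/
theorem ringKrullDim_stalk_fromSpecStalk {G : Scheme.{u}} [IsLocallyNoetherian G] (w : G)
    (q : PrimeSpectrum (G.presheaf.stalk w)) :
    ringKrullDim (G.presheaf.stalk (G.fromSpecStalk w q)) = (q.asIdeal.height : WithBot ℕ∞) := by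
  rw [ringKrullDim_stalk_eq_coheight, PrimeSpectrum.height_eq_orderHeight, coheight_eq_krullDim_Ici,
    height_eq_krullDim_Iic, ← Order.krullDim_orderDual (α := ↥(Set.Iic q))]
  let c : PrimeSpectrum (G.presheaf.stalk w) → G := G.fromSpecStalk w
  have hc : IsEmbedding c := (G.fromSpecStalk w).isEmbedding
  have hle : ∀ a b, a ≤ b ↔ c b ≤ c a := fun a b => by
    rw [PrimeSpectrum.le_iff_specializes]
    exact hc.isInducing.specializes_iff.symm
  let φ : (↥(Set.Iic q))ᵒᵈ → ↥(Set.Ici (c q)) := fun t => ⟨c (OrderDual.ofDual t).1, (hle _ _).1 (OrderDual.ofDual t).2⟩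
  have hφ : Function.Bijective φ := by
    refine ⟨fun s t h => ?_, fun ⟨y, hy⟩ => ?_⟩
    · have h2 : c (OrderDual.ofDual s).1 = c (OrderDual.ofDual t).1 := congrArg (fun t : ↥(Set.Ici (c q)) => t.1) h
      exact OrderDual.ofDual.injective (Subtype.ext (hc.injective h2))
    · have hy' : y ⤳ c q := hy
      obtain ⟨a, rfl⟩ : y ∈ Set.range c := by
        have := hy'.trans (DimFormula.fromSpecStalk_specializes w q)
        show y ∈ Set.range (G.fromSpecStalk w)
        rw [Scheme.range_fromSpecStalk]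
        exact this
      exact ⟨OrderDual.toDual ⟨a, (hle a q).2 hy⟩, rfl⟩
  exact (Order.krullDim_eq_of_orderIso
    ⟨Equiv.ofBijective φ hφ, fun {s t} => ⟨fun h => (hle _ _).2 h, fun h => (hle _ _).1 h⟩⟩).symm

variable {X S : Scheme.{u}}

/-- Off-`U` fibre points of dimension at least two give bigness. -/
theorem isBig_of_fibre (f : X ⟶ S) [Flat f] [LocallyOfFinitePresentation f] (U : X.Opens)
    (hCM : ∀ (s : S) (w : ↥(f.fiber s)), LocCoh.IsCohenMacaulayLocalRing ((f.fiber s).presheaf.stalk w))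
    (hU : ∀ x : X, x ∉ U → (2 : WithBot ℕ∞) ≤ ringKrullDim ↑(CInt.fiberStalk f x)) : IsBig U := by
  intro V x hxV hxU
  have hU' : ∀ (s : S) (w : ↥(f.fiber s)), f.fiberι s w ∉ U →
      (2 : WithBot ℕ∞) ≤ ringKrullDim ((f.fiber s).presheaf.stalk w) :=
    Codepth5.fibre_induction f (fun s w => f.fiberι s w ∉ U →
      (2 : WithBot ℕ∞) ≤ ringKrullDim ((f.fiber s).presheaf.stalk w)) fun z hz => hU z (by rwa [f.fiberι_asFiber] at hz)
  haveI : LocallyOfFiniteType (f.fiberToSpecResidueField (f x)) :=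
    MorphismProperty.pullback_snd (P := @LocallyOfFiniteType) f _ inferInstance
  haveI : IsLocallyNoetherian (f.fiber (f x)) :=
    LocallyOfFiniteType.isLocallyNoetherian (f.fiberToSpecResidueField (f x))
  let G := f.fiber (f x)
  let ι := f.fiberι (f x)
  let w : G := f.asFiber x
  have hw : ι w = x := f.fiberι_asFiber x
  haveI := hCM (f x) w
  let π : X.presheaf.stalk x →+* G.presheaf.stalk w := FibFlat.sm ι w x hw
  have hπ : Function.Surjective π := FibFlat.surjective_sm w x hw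
  have hker : RingHom.ker π = (maximalIdeal (S.presheaf.stalk (f x))).map (f.stalkMap x).hom := by
    rw [← FibFlat.sm_self f x]
    exact FibFlat.ker_sm_fiberι f (f x) w x hw
  obtain ⟨W, hW, hxW, hWV⟩ := exists_isAffineOpen_mem_and_subset (X := X) (x := x) (U := V) hxV
  let J : Ideal Γ(X, W) :=
    { carrier := {g | X.basicOpen g ≤ U}
      zero_mem' := by simp [Scheme.basicOpen_zero]
      add_mem' := fun {g h} hg hh y hy => by
        have hyW : y ∈ W := X.basicOpen_le _ hy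
        have hy' := (X.mem_basicOpen (g + h) y hyW).1 hy
        rw [map_add] at hy'
        rcases IsLocalRing.isUnit_or_isUnit_of_isUnit_add hy' with h1 | h1
        · exact hg ((X.mem_basicOpen _ y hyW).2 h1)
        · exact hh ((X.mem_basicOpen _ y hyW).2 h1)
      smul_mem' := fun c g hg => by
        show X.basicOpen (c * g) ≤ U
        rw [Scheme.basicOpen_mul]
        exact inf_le_right.trans hg }
  let γ : Γ(X, W) →+* X.presheaf.stalk x := (X.presheaf.germ W x hxW).hom
  let I : Ideal (G.presheaf.stalk w) := (J.map γ).map π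
  have hJm : J.map γ ≤ maximalIdeal (X.presheaf.stalk x) := Ideal.map_le_iff_le_comap.2 fun g hg hu =>
    hxU (hg ((X.mem_basicOpen g x hxW).2 hu))
  haveI : IsLocalHom π := by
    refine ⟨fun a ha => ?_⟩
    by_contra h
    have h1 : RingHom.ker π ≤ maximalIdeal (X.presheaf.stalk x) := IsLocalRing.le_maximalIdeal (RingHom.ker_ne_top π)
    obtain ⟨b, hb⟩ := hπ ↑ha.unit⁻¹
    have h2 : a * b - 1 ∈ maximalIdeal (X.presheaf.stalk x) := h1 (by
      rw [RingHom.mem_ker, map_sub, map_mul, map_one, hb, IsUnit.mul_val_inv, sub_self])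
    have h3 := sub_mem (Ideal.mul_mem_right b _ (show a ∈ maximalIdeal (X.presheaf.stalk x) from h)) h2
    rw [sub_sub_cancel] at h3
    exact (maximalIdeal.isMaximal _).ne_top ((Ideal.eq_top_iff_one _).2 h3)
  have hIm : I ≤ maximalIdeal (G.presheaf.stalk w) :=
    Ideal.map_le_iff_le_comap.2 fun a ha => fun hu => hJm ha (isUnit_of_map_unit π a hu)
  have hht : (2 : ℕ∞) ≤ I.height := by
    rw [Ideal.height_eq_inf_minimalPrimes]
    refine le_iInf₂ fun q hq => ?_
    haveI := hq.1.1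
    have hqU : ι (G.fromSpecStalk w ⟨q, hq.1.1⟩) ∉ U := by
      intro hmem
      have e : G.fromSpecStalk w ≫ ι = Spec.map (CommRingCat.ofHom π) ≫ X.fromSpecStalk x := by
        have key : ∀ (z : X) (hz : ι w = z), G.fromSpecStalk w ≫ ι =
            Spec.map (CommRingCat.ofHom (FibFlat.sm ι w z hz)) ≫ X.fromSpecStalk z := by
          rintro z rfl
          rw [FibFlat.sm_self]
          exact (Scheme.SpecMap_stalkMap_fromSpecStalk ι).symm
        exact key x hw
      have e2 : ι (G.fromSpecStalk w ⟨q, hq.1.1⟩) =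
          hW.fromSpec (PrimeSpectrum.comap γ (PrimeSpectrum.comap π ⟨q, hq.1.1⟩)) := by
        rw [← Scheme.Hom.comp_apply, e, ← hW.fromSpecStalk_eq_fromSpecStalk hxW]
        rfl
      rw [e2] at hmem
      obtain ⟨g, hgU, hPg⟩ := hW.exists_basicOpen_le (⟨_, hmem⟩ : U) (VarDim.fromSpec_mem hW _)
      have h1 : PrimeSpectrum.comap γ (PrimeSpectrum.comap π ⟨q, hq.1.1⟩) ∈ hW.fromSpec ⁻¹ᵁ X.basicOpen g := hPg
      rw [hW.fromSpec_preimage_basicOpen] at h1
      exact h1 (hq.1.2 (Ideal.mem_map_of_mem π (Ideal.mem_map_of_mem γ hgU)))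
    have h2 := hU' (f x) _ hqU
    rw [ringKrullDim_stalk_fromSpecStalk] at h2
    exact WithBot.coe_le_coe.1 h2
  have hne : I • (⊤ : Submodule (G.presheaf.stalk w) (G.presheaf.stalk w)) ≠ ⊤ :=
    LC.smul_top_ne_top_of_le_maximal hIm
  obtain ⟨rs, hrs, hmem, hlen⟩ := Alg6.exists_length_ge_of_le_idealDepth hne (n := 2)
    (by rw [LC.idealDepth_self_eq_height]; exact hht)
  obtain ⟨r₁, r₂, rest, rfl⟩ : ∃ r₁ r₂ rest, rs = r₁ :: r₂ :: rest := by
    match rs, hlen with
    | r₁ :: r₂ :: rest, _ => exact ⟨r₁, r₂, rest, rfl⟩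
  have hpair : IsWeaklyRegular (G.presheaf.stalk w) [r₁, r₂] := by
    rw [isWeaklyRegular_cons_iff] at hrs ⊢
    refine ⟨hrs.1, ?_⟩
    have h2 := hrs.2
    rw [isWeaklyRegular_cons_iff] at h2 ⊢
    exact ⟨h2.1, IsWeaklyRegular.nil _ _⟩
  rw [pair_iff] at hpair
  obtain ⟨a₀, ha₀, rfl⟩ := (Ideal.mem_map_iff_of_surjective π hπ).1 (hmem r₁ (by simp))
  obtain ⟨b₀, hb₀, rfl⟩ := (Ideal.mem_map_iff_of_surjective π hπ).1 (hmem r₂ (by simp))
  have hm : ∀ h ∈ [a₀, b₀], h ∈ maximalIdeal (X.presheaf.stalk x) := by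
    simp only [List.mem_cons, List.not_mem_nil, or_false, forall_eq_or_imp, forall_eq]
    exact ⟨hJm ha₀, hJm hb₀⟩
  have hreg : ∀ i (hi : i < [a₀, b₀].length), ∀ z, [a₀, b₀][i] * z ∈ Ideal.ofList ([a₀, b₀].take i) ⊔
        (maximalIdeal (S.presheaf.stalk (f x))).map (f.stalkMap x).hom →
      z ∈ Ideal.ofList ([a₀, b₀].take i) ⊔ (maximalIdeal (S.presheaf.stalk (f x))).map (f.stalkMap x).hom := by
    intro i hi z
    rw [← hker, ← Ideal.comap_map_of_surjective' π hπ, Ideal.mem_comap, Ideal.mem_comap, Ideal.map_ofList,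
      map_mul]
    match i, hi with
    | 0, _ =>
      simp only [List.take_zero, List.map_nil, List.getElem_cons_zero]
      simp only [Ideal.ofList_nil, Ideal.mem_bot]
      exact hpair.1 _
    | 1, _ =>
      simp only [List.take_succ_cons, List.take_zero, List.map_cons, List.map_nil, List.getElem_cons_succ,
        List.getElem_cons_zero, Ideal.ofList_singleton, Ideal.mem_span_singleton]
      rintro ⟨y, hy⟩
      exact hpair.2 _ y hy
  obtain ⟨-, -, U₁, hU₁, hx₁, hU₁W, -, hs', hgerm, -, hwr, -⟩ :=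
    Triage.SliceFlat.exists_slice_sch f x (Flat.stalkMap f x) [a₀, b₀] hm hreg W hxW
  obtain ⟨a₁, b₁, rfl⟩ : ∃ a₁ b₁, hs' = [a₁, b₁] := by
    have hl := congrArg List.length hgerm
    rw [List.length_map] at hl
    match hs', hl with
    | [a₁, b₁], _ => exact ⟨a₁, b₁, rfl⟩
  simp only [List.map_cons, List.map_nil, List.cons.injEq, and_true] at hgerm
  -- the non-vanishing loci lie in `U` near `x`
  have key : ∀ (c₀ : X.presheaf.stalk x) (c₁ : Γ(X, U₁)), c₀ ∈ J.map γ → X.presheaf.germ U₁ x hx₁ c₁ = c₀ →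
      ∃ N : X.Opens, x ∈ N ∧ X.basicOpen c₁ ⊓ N ≤ U := by
    intro c₀ c₁ hc₀ hc
    letI := X.presheaf.algebra_section_stalk ⟨x, hxW⟩
    haveI := hW.isLocalization_stalk ⟨x, hxW⟩
    obtain ⟨⟨⟨g, hg⟩, ⟨t, ht⟩⟩, he⟩ := (IsLocalization.mem_map_algebraMap_iff
      (hW.primeIdealOf ⟨x, hxW⟩).asIdeal.primeCompl (X.presheaf.stalk x)).1 hc₀
    have he' : X.presheaf.germ U₁ x hx₁ (c₁ * rr hU₁W t) = X.presheaf.germ W x hxW g := by
      rw [map_mul, hc, X.presheaf.germ_res_apply (homOfLE hU₁W) x hx₁ t]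
      exact he
    obtain ⟨N₀, hxN, i₁, i₂, e⟩ := X.presheaf.germ_eq x hx₁ hxW _ _ he'
    refine ⟨N₀ ⊓ X.basicOpen t, ⟨hxN, (X.mem_basicOpen t x hxW).2
      (IsLocalization.map_units (M := (hW.primeIdealOf ⟨x, hxW⟩).asIdeal.primeCompl) _ ⟨t, ht⟩)⟩, ?_⟩
    rintro y ⟨hyc, hyN, hyt⟩
    refine hg ?_
    have h1 := congrArg X.basicOpen e
    rw [X.basicOpen_res, X.basicOpen_res, X.basicOpen_mul,
      show X.basicOpen (rr hU₁W t) = U₁ ⊓ X.basicOpen t from X.basicOpen_res t (homOfLE hU₁W).op] at h1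
    exact (h1.le ⟨hyN, hyc, X.basicOpen_le _ hyc, hyt⟩).2
  obtain ⟨Na, hxa, hNa⟩ := key a₀ a₁ ha₀ hgerm.1
  obtain ⟨Nb, hxb, hNb⟩ := key b₀ b₁ hb₀ hgerm.2
  obtain ⟨g, hgN, hxg⟩ := hU₁.exists_basicOpen_le (⟨x, hxa, hxb⟩ : (Na ⊓ Nb : X.Opens)) hx₁
  have hle := X.basicOpen_le g
  refine ⟨X.basicOpen g, hU₁.basicOpen g, (hle.trans hU₁W).trans hWV, hxg, rr hle a₁, rr hle b₁, ?_, ?_, ?_⟩
  · rw [show X.basicOpen (rr hle a₁) = X.basicOpen g ⊓ X.basicOpen a₁ from X.basicOpen_res a₁ (homOfLE hle).op]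
    exact (le_inf inf_le_right (inf_le_left.trans (hgN.trans inf_le_left))).trans hNa
  · rw [show X.basicOpen (rr hle b₁) = X.basicOpen g ⊓ X.basicOpen b₁ from X.basicOpen_res b₁ (homOfLE hle).op]
    exact (le_inf inf_le_right (inf_le_left.trans (hgN.trans inf_le_right))).trans hNb
  · haveI := hU₁.isLocalization_basicOpen g
    letI : Algebra Γ(X, U₁) Γ(X, X.basicOpen g) := (X.presheaf.map (homOfLE hle).op).hom.toAlgebra
    haveI : IsLocalization.Away g Γ(X, X.basicOpen g) := hU₁.isLocalization_basicOpen g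
    haveI : Module.Flat Γ(X, U₁) Γ(X, X.basicOpen g) := IsLocalization.flat _ (Submonoid.powers g)
    have h := IsWeaklyRegular.of_flat (S := Γ(X, X.basicOpen g)) hwr
    exact (pair_iff _ _).1 h

end Groth.Agent.BigOpen
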