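import Groth.Agent.BigOpen.Modules
import Groth.Agent.Codepth5.Scheme
import Groth.Agent.S1393
import Groth.Agent.DimFormula.DedekindFlat
import Groth.Agent.RegLoc6.Basic
import Groth.Prelude.Def_TorSh

/-!
# Flat families of torsion-free sheaves are free at points of fibre dimension at most one
-/

set_option autoImplicit false
set_option linter.style.haveILetI false
set_option backward.isDefEq.respectTransparency false

universe u

open CategoryTheory AlgebraicGeometry TopologicalSpace IsLocalRing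

namespace Groth.Agent.BigOpen

variable {X S : Scheme.{u}}

theorem flat_fibre_aux (f : X ⟶ S) (F : X.Modules) (s : S) (w : ↥(f.fiber s)) (x : X) (hw : f.fiberι s w = x)
    [IsDomain ((f.fiber s).presheaf.stalk w)] [IsPrincipalIdealRing ((f.fiber s).presheaf.stalk w)]
    (htf : TorSh.IsTorsionFree ((Scheme.Modules.pullback (f.fiberι s)).obj F)) :
    Module.Flat (X.presheaf.stalk x ⧸ Codepth5.fibIdeal f x)
      (F.presheaf.stalk x ⧸ (Codepth5.fibIdeal f x • ⊤ : Submodule (X.presheaf.stalk x) (F.presheaf.stalk x))) := by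
  subst hw
  let ι := f.fiberι s
  let O := X.presheaf.stalk (ι w)
  let R := (f.fiber s).presheaf.stalk w
  let σ : O →+* R := (ι.stalkMap w).hom
  letI : Algebra O R := σ.toAlgebra
  have hσ : Function.Surjective σ := ι.stalkMap_surjective w
  let J : Ideal O := Codepth5.fibIdeal f (ι w)
  have hJ : RingHom.ker σ = J := FlatDvr.ker_stalkMap_fiberι f w
  let e₀ : ((Scheme.Modules.pullback ι).obj F).presheaf.stalk w ≃ₗ[R]
      TensorProduct O R (F.presheaf.stalk (ι w)) :=
    ((KFlatLib.stalkPullbackIso ι w).app F).toLinearEquiv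
  let e₁ : (O ⧸ J) ≃ₗ[O] R :=
    (Submodule.quotEquivOfEq J (LinearMap.ker (Algebra.linearMap O R)) hJ.symm) ≪≫ₗ
      (Algebra.linearMap O R).quotKerEquivOfSurjective hσ
  let e₂ := (TensorProduct.quotTensorEquivQuotSMul (F.presheaf.stalk (ι w)) J).symm ≪≫ₗ
    TensorProduct.congr e₁ (LinearEquiv.refl O (F.presheaf.stalk (ι w)))
  let e := e₂.toAddEquiv.trans e₀.symm.toAddEquiv
  let ψ : (O ⧸ J) ≃+* R := (Ideal.quotEquivOfEq hJ.symm).trans (RingHom.quotientKerEquivOfSurjective hσ)
  have he : ∀ (c : O ⧸ J) (m : F.presheaf.stalk (ι w) ⧸ (J • ⊤ : Submodule O (F.presheaf.stalk (ι w)))),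
      e (c • m) = ψ c • e m := by
    intro c m
    obtain ⟨r, rfl⟩ := Ideal.Quotient.mk_surjective c
    show e₀.symm (e₂ (r • m)) = σ r • e₀.symm (e₂ m)
    rw [e₂.map_smul, show r • e₂ m = σ r • e₂ m from (algebraMap_smul R r (e₂ m)).symm, e₀.symm.map_smul]
  haveI : IsDomain (O ⧸ J) := ψ.toMulEquiv.isDomain R
  haveI : IsPrincipalIdealRing (O ⧸ J) := IsPrincipalIdealRing.of_surjective ψ.symm.toRingHom ψ.symm.surjective
  haveI := htf w
  haveI : Module.IsTorsionFree (O ⧸ J) (F.presheaf.stalk (ι w) ⧸ (J • ⊤ : Submodule O (F.presheaf.stalk (ι w)))) := by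
    refine ⟨fun c hc a b h => e.injective ?_⟩
    have hc' : IsRegular (ψ c) := IsRegular.of_ne_zero ((map_ne_zero_iff _ ψ.injective).2 hc.ne_zero)
    refine Module.IsTorsionFree.isSMulRegular hc' ?_
    show ψ c • e a = ψ c • e b
    rw [← he, ← he]
    exact congrArg e h
  show Module.Flat (O ⧸ J) (F.presheaf.stalk (ι w) ⧸ (J • ⊤ : Submodule O (F.presheaf.stalk (ι w))))
  infer_instance

theorem exists_free_nhd_of_smooth (f : X ⟶ S) [Smooth f] (F : X.Modules) (hfp : CohB1.IsFP F)
    (hfl : FlatMod.IsFlatOver f F)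
    (htf : ∀ s : S, TorSh.IsTorsionFree ((Scheme.Modules.pullback (f.fiberι s)).obj F))
    (x : X) (hx : ringKrullDim ↑(CInt.fiberStalk f x) ≤ 1) :
    ∃ (V : X.Opens) (n : ℕ), x ∈ V ∧ Nonempty (F.restrict V.ι ≅ FlatMod.freeMod (↑V) n) := by
  haveI : Smooth (f.fiberToSpecResidueField (f x)) :=
    MorphismProperty.pullback_snd (P := @Smooth) _ _ inferInstance
  letI : (f.fiber (f x)).Over (Spec (CommRingCat.of (S.residueField (f x)))) := ⟨f.fiberToSpecResidueField (f x)⟩
  haveI : Smooth ((f.fiber (f x)) ↘ Spec (CommRingCat.of (S.residueField (f x)))) :=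
    ‹Smooth (f.fiberToSpecResidueField (f x))›
  haveI : IsRegularLocalRing ((f.fiber (f x)).presheaf.stalk (f.asFiber x)) :=
    S1535.result (S.residueField (f x)) (f.fiber (f x)) (f.asFiber x)
  haveI := RegLoc6.isDomain_of_isRegularLocalRing ((f.fiber (f x)).presheaf.stalk (f.asFiber x))
  haveI := DimFormula.isPrincipalIdealRing_of_regular_dim_le_one
    (R := (f.fiber (f x)).presheaf.stalk (f.asFiber x)) hx
  have h2 := flat_fibre_aux f F (f x) (f.asFiber x) x (f.fiberι_asFiber x) (htf _)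
  letI := (f.stalkMap x).hom.toAlgebra
  letI := FlatMod.moduleStalkOver f F x
  haveI : IsScalarTower (S.presheaf.stalk (f x)) (X.presheaf.stalk x) (F.presheaf.stalk x) :=
    IsScalarTower.of_algebraMap_smul fun _ _ => rfl
  haveI : Module.Flat (S.presheaf.stalk (f x)) (F.presheaf.stalk x) := hfl x
  haveI : IsLocalHom (algebraMap (S.presheaf.stalk (f x)) (X.presheaf.stalk x)) :=
    inferInstanceAs (IsLocalHom (f.stalkMap x).hom)
  haveI : Module.FinitePresentation (X.presheaf.stalk x) (F.presheaf.stalk x) :=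
    S1393.fp_stalk (QCoh.isQCoh_of_isFP hfp) hfp x
  haveI := S1393.free_of_fibre (A := S.presheaf.stalk (f x)) (B := X.presheaf.stalk x)
    (M := F.presheaf.stalk x) h2
  exact QCoh.exists_free_nhd_of_free_stalk hfp x

theorem isBig_of_free_locus (f : X ⟶ S) [Smooth f] (F : X.Modules) (hfp : CohB1.IsFP F)
    (hfl : FlatMod.IsFlatOver f F)
    (htf : ∀ s : S, TorSh.IsTorsionFree ((Scheme.Modules.pullback (f.fiberι s)).obj F)) (U : X.Opens)
    (hU : ∀ x : X, (∃ (V : X.Opens) (n : ℕ), x ∈ V ∧ Nonempty (F.restrict V.ι ≅ FlatMod.freeMod (↑V) n)) → x ∈ U) :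
    IsBig U :=
  isBig_of_smooth f U fun x hx => by
    by_contra h
    refine hx (hU x (exists_free_nhd_of_smooth f F hfp hfl htf x ?_))
    rw [not_le, show (2 : WithBot ℕ∞) = 1 + 1 by norm_num] at h
    exact ENat.WithBot.lt_add_one_iff.1 h

end Groth.Agent.BigOpen
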