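import Groth.Agent.BigOpen.Smooth
import Groth.Agent.ParaFX.Functions

/-!
# Finite locally free modules across big opens
-/

set_option autoImplicit false
set_option linter.style.haveILetI false

universe u

open CategoryTheory AlgebraicGeometry TopologicalSpace Opposite

namespace Groth.Agent.BigOpen

variable {X : Scheme.{u}}

theorem IsBig.fnBij {U : X.Opens} (hU : IsBig U) : ParaFX.FnBij U.ι := fun O => by
  have he : O ⊓ U.ι.opensRange = O ⊓ U := by rw [Scheme.Opens.opensRange_ι]
  have h2 : Function.Bijective (rr he.le) := by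
    refine Function.bijective_iff_has_inverse.2 ⟨rr he.ge, fun a => ?_, fun a => ?_⟩
    · rw [rr_rr, rr_self]
    · rw [rr_rr, rr_self]
  have h := h2.comp (hU.bijective O)
  have e : ⇑(X.presheaf.map (homOfLE (inf_le_left : O ⊓ U.ι.opensRange ≤ O)).op) =
      ⇑(rr he.le) ∘ ⇑(rr (inf_le_left : O ⊓ U ≤ O)) := by
    funext a
    exact (rr_rr _ _ a).symm
  rw [e]
  exact h

theorem IsBig.sectBij {U : X.Opens} (hU : IsBig U) {E : X.Modules} (hE : FlatMod.IsFinLocFree E) :
    ParaFX.SectBij U.ι E :=
  ParaFX.sectBij_of_isFinLocFree hU.fnBij hE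

theorem IsBig.isIso_unit {U : X.Opens} (hU : IsBig U) {E : X.Modules} (hE : FlatMod.IsFinLocFree E) :
    IsIso ((Scheme.Modules.restrictAdjunction U.ι).unit.app E) :=
  (ParaFX.sectBij_iff_isIso_unit U.ι E).1 (hU.sectBij hE)

theorem IsBig.hom_bijective {U : X.Opens} (hU : IsBig U) {F : X.Modules} (hF : FlatMod.IsFinLocFree F)
    (E : X.Modules) :
    Function.Bijective (fun φ : E ⟶ F => (Scheme.Modules.restrictFunctor U.ι).map φ) :=
  ParaFX.map_bijective U.ι (hU.sectBij hF) E

end Groth.Agent.BigOpen
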