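import Groth.Agent.BigOpen.Fibre
import Groth.Agent.AvramovLib.Ps
import Groth.Agent.S1535
import Groth.Agent.SchDenseLib.Hom
import Groth.Agent.SchDenseLib.FlatLFP
import Groth.Agent.AlgSpDec.HomToAffine

/-!
# Big opens in smooth families, and sections of affine morphisms
-/

set_option autoImplicit false
set_option linter.style.haveILetI false

universe u

open CategoryTheory CategoryTheory.Limits AlgebraicGeometry TopologicalSpace

namespace Groth.Agent.BigOpen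

variable {X S : Scheme.{u}}

theorem isCM_fiber_of_smooth (f : X ⟶ S) [Smooth f] (s : S) (w : ↥(f.fiber s)) :
    LocCoh.IsCohenMacaulayLocalRing ((f.fiber s).presheaf.stalk w) := by
  haveI : Smooth (f.fiberToSpecResidueField s) :=
    MorphismProperty.pullback_snd (P := @Smooth) _ _ inferInstance
  letI : (f.fiber s).Over (Spec (CommRingCat.of (S.residueField s))) := ⟨f.fiberToSpecResidueField s⟩
  haveI : Smooth ((f.fiber s) ↘ Spec (CommRingCat.of (S.residueField s))) :=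
    ‹Smooth (f.fiberToSpecResidueField s)›
  haveI : IsRegularLocalRing ((f.fiber s).presheaf.stalk w) := S1535.result (S.residueField s) (f.fiber s) w
  exact AvramovLib.isCM_of_regular _

theorem isBig_of_smooth (f : X ⟶ S) [Smooth f] (U : X.Opens)
    (hU : ∀ x : X, x ∉ U → (2 : WithBot ℕ∞) ≤ ringKrullDim ↑(CInt.fiberStalk f x)) : IsBig U :=
  isBig_of_fibre f U (isCM_fiber_of_smooth f) hU

theorem top_bijective {U : X.Opens} (hU : IsBig U) (W : X.Opens) :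
    IsIso ((W.ι ⁻¹ᵁ U).ι.appTop) := by
  refine (ConcreteCategory.isIso_iff_bijective _).2 ?_
  have h1 : W.ι ''ᵁ (W.ι ⁻¹ᵁ U).ι ''ᵁ ⊤ = (W.ι ''ᵁ ⊤) ⊓ U := by
    rw [Scheme.Opens.ι_image_top, Scheme.Opens.ι_image_top, Scheme.Hom.image_preimage_eq_opensRange_inf,
      Scheme.Opens.opensRange_ι]
  have hle : W.ι ''ᵁ (W.ι ⁻¹ᵁ U).ι ''ᵁ ⊤ ≤ (W.ι ''ᵁ ⊤) ⊓ U := h1.le
  have h2 : Function.Bijective (rr hle) := by
    refine Function.bijective_iff_has_inverse.2 ⟨rr h1.ge, fun a => ?_, fun a => ?_⟩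
    · rw [rr_rr, rr_self]
    · rw [rr_rr, rr_self]
  have h3 : Function.Bijective (rr (hle.trans inf_le_left)) := by
    have e : ⇑(rr (hle.trans inf_le_left)) = ⇑(rr hle) ∘ ⇑(rr (inf_le_left : (W.ι ''ᵁ ⊤) ⊓ U ≤ W.ι ''ᵁ ⊤)) := by
      funext a
      exact (rr_rr _ _ a).symm
    rw [e]
    exact h2.comp (hU.bijective _)
  exact h3

/-- Sections of an affine morphism extend uniquely from a big open. -/
theorem IsBig.existsUnique_section {U : X.Opens} (hU : IsBig U) {Y : Scheme.{u}} (p : Y ⟶ X) [IsAffineHom p]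
    (s : (U : Scheme.{u}) ⟶ Y) (hs : s ≫ p = U.ι) : ∃! t : X ⟶ Y, t ≫ p = 𝟙 X ∧ U.ι ≫ t = s := by
  refine existsUnique_of_exists_of_unique ?_ fun t t' ht ht' =>
    SchDenseLib.hom_ext hU.dense p t t' (ht.1.trans ht'.1.symm) (ht.2.trans ht'.2.symm)
  let 𝒰 := X.openCoverOfIsOpenCover (fun W : X.affineOpens => W.1) (iSup_affineOpens_eq_top X)
  have key : ∀ W : X.affineOpens, ∃ t : (W.1 : Scheme.{u}) ⟶ Y, t ≫ p = W.1.ι ∧
      (W.1.ι ⁻¹ᵁ U).ι ≫ t = (W.1.ι ∣_ U) ≫ s := fun W => by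
    haveI : IsAffine (W.1 : Scheme.{u}) := W.2
    haveI : IsAffine ((p ⁻¹ᵁ W.1 : Y.Opens) : Scheme.{u}) := W.2.preimage p
    haveI := top_bijective hU W.1
    have hrange : Set.range ((W.1.ι ∣_ U) ≫ s) ⊆ Set.range (p ⁻¹ᵁ W.1).ι := by
      rw [Scheme.Opens.range_ι]
      rintro _ ⟨a, rfl⟩
      show p (((W.1.ι ∣_ U) ≫ s) a) ∈ W.1
      have e : ((W.1.ι ∣_ U) ≫ s) ≫ p = (W.1.ι ⁻¹ᵁ U).ι ≫ W.1.ι := by
        rw [Category.assoc, hs, morphismRestrict_ι]
      rw [← Scheme.Hom.comp_apply, e, Scheme.Hom.comp_apply]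
      exact ((W.1.ι ⁻¹ᵁ U).ι a).2
    let s' := IsOpenImmersion.lift (p ⁻¹ᵁ W.1).ι ((W.1.ι ∣_ U) ≫ s) hrange
    obtain ⟨t₀, ht₀⟩ := AlgSpDec.exists_hom_appTop (X := (W.1 : Scheme.{u}))
      (T := ((p ⁻¹ᵁ W.1 : Y.Opens) : Scheme.{u})) (s'.appTop ≫ inv (W.1.ι ⁻¹ᵁ U).ι.appTop)
    have hjt : (W.1.ι ⁻¹ᵁ U).ι ≫ t₀ = s' := ext_of_isAffine (by
      rw [Scheme.Hom.comp_appTop, ht₀, Category.assoc, IsIso.inv_hom_id, Category.comp_id])
    refine ⟨t₀ ≫ (p ⁻¹ᵁ W.1).ι, ?_, ?_⟩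
    · rw [Category.assoc, ← morphismRestrict_ι, ← Category.assoc]
      suffices h : t₀ ≫ p ∣_ W.1 = 𝟙 _ by rw [h, Category.id_comp]
      refine ext_of_isAffine ((cancel_mono (W.1.ι ⁻¹ᵁ U).ι.appTop).1 ?_)
      rw [← Scheme.Hom.comp_appTop, ← Scheme.Hom.comp_appTop, Category.comp_id, ← Category.assoc, hjt]
      congr 1
      rw [← cancel_mono W.1.ι, Category.assoc, morphismRestrict_ι, IsOpenImmersion.lift_fac_assoc,
        Category.assoc, hs, morphismRestrict_ι]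
    · rw [← Category.assoc, hjt, IsOpenImmersion.lift_fac]
  choose t htp htU using key
  have hglue : ∀ i j : X.affineOpens, pullback.fst i.1.ι j.1.ι ≫ t i = pullback.snd i.1.ι j.1.ι ≫ t j := fun i j => by
    refine SchDenseLib.hom_ext (SchDenseLib.preimage_of_flat_lfp (pullback.fst i.1.ι j.1.ι ≫ i.1.ι) U hU.dense)
      p _ _ ?_ ?_
    · rw [Category.assoc, Category.assoc, htp, htp, pullback.condition]
    · let q := pullback.fst i.1.ι j.1.ι ≫ i.1.ι
      have hside : ∀ (W : X.affineOpens) (r : pullback i.1.ι j.1.ι ⟶ W.1), r ≫ W.1.ι = q →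
          (q ⁻¹ᵁ U).ι ≫ r ≫ t W = (q ∣_ U) ≫ s := fun W r hr => by
        have hrange : Set.range ((q ⁻¹ᵁ U).ι ≫ r) ⊆ Set.range (W.1.ι ⁻¹ᵁ U).ι := by
          rw [Scheme.Opens.range_ι]
          rintro _ ⟨a, rfl⟩
          show W.1.ι (((q ⁻¹ᵁ U).ι ≫ r) a) ∈ U
          rw [← Scheme.Hom.comp_apply, Category.assoc, hr, Scheme.Hom.comp_apply]
          exact a.2
        let k := IsOpenImmersion.lift (W.1.ι ⁻¹ᵁ U).ι ((q ⁻¹ᵁ U).ι ≫ r) hrange
        rw [← Category.assoc, ← IsOpenImmersion.lift_fac (W.1.ι ⁻¹ᵁ U).ι ((q ⁻¹ᵁ U).ι ≫ r) hrange,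
          Category.assoc, htU, ← Category.assoc]
        congr 1
        rw [← cancel_mono U.ι, Category.assoc, morphismRestrict_ι, morphismRestrict_ι,
          IsOpenImmersion.lift_fac_assoc, Category.assoc, hr]
      exact (hside i _ rfl).trans (hside j _ pullback.condition.symm).symm
  refine ⟨𝒰.glueMorphisms t hglue, ?_, ?_⟩
  · refine 𝒰.hom_ext _ _ fun i => ?_
    rw [← Category.assoc, Scheme.Cover.ι_glueMorphisms]
    exact (htp i).trans (Category.comp_id _).symm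
  · refine Scheme.Cover.hom_ext (𝒰.pullback₁ U.ι) _ _ fun i => ?_
    show pullback.fst U.ι i.1.ι ≫ U.ι ≫ _ = pullback.fst U.ι i.1.ι ≫ s
    rw [← Category.assoc, pullback.condition, Category.assoc,
      show i.1.ι ≫ 𝒰.glueMorphisms t hglue = t i from Scheme.Cover.ι_glueMorphisms 𝒰 t hglue i]
    have hrange : Set.range (pullback.snd U.ι i.1.ι) ⊆ Set.range (i.1.ι ⁻¹ᵁ U).ι := by
      rw [Scheme.Opens.range_ι]
      rintro _ ⟨a, rfl⟩
      show i.1.ι (pullback.snd U.ι i.1.ι a) ∈ U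
      rw [← Scheme.Hom.comp_apply, ← pullback.condition, Scheme.Hom.comp_apply]
      exact (pullback.fst U.ι i.1.ι a).2
    rw [← IsOpenImmersion.lift_fac (i.1.ι ⁻¹ᵁ U).ι (pullback.snd U.ι i.1.ι) hrange, Category.assoc, htU,
      ← Category.assoc]
    congr 1
    rw [← cancel_mono U.ι, Category.assoc, morphismRestrict_ι, IsOpenImmersion.lift_fac_assoc, pullback.condition]

end Groth.Agent.BigOpen
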